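import Mathlib.FieldTheory.PrimitiveElement
import Mathlib.FieldTheory.Minpoly.IsIntegrallyClosed
import Mathlib.FieldTheory.IntermediateField.Adjoin.Algebra
import Mathlib.RingTheory.AlgebraicIndependent.Adjoin
import Mathlib.RingTheory.AlgebraicIndependent.TranscendenceBasis
import Mathlib.RingTheory.Localization.Integral
import Mathlib.RingTheory.AdjoinRoot
import Mathlib.RingTheory.EssentialFiniteness
import Mathlib.RingTheory.Polynomial.UniqueFactorization
import Mathlib.RingTheory.Polynomial.RationalRoot

/-!
# A separably generated field extension is the fraction field of a hypersurface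
-/

universe u

open Polynomial

namespace Groth.Agent.Hyp18

theorem exists_hypersurface (k K : Type u) [Field k] [Field K] [Algebra k K] [Algebra.EssFiniteType k K]
    (d : ℕ) (s : Fin d → K) (hs : IsTranscendenceBasis k s)
    (hsep : Algebra.IsSeparable ↥(IntermediateField.adjoin k (Set.range s)) K) :
    ∃ g : Polynomial (MvPolynomial (Fin d) k), g.Monic ∧
      Irreducible (g.map (algebraMap (MvPolynomial (Fin d) k) (FractionRing (MvPolynomial (Fin d) k)))) ∧
      (g.map (algebraMap (MvPolynomial (Fin d) k) (FractionRing (MvPolynomial (Fin d) k)))).Separable ∧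
      ∃ φ : AdjoinRoot g →ₐ[k] K, Function.Injective φ ∧
        ∀ z : K, ∃ x y, z = φ x / φ y := by
  let A := MvPolynomial (Fin d) k
  let F := FractionRing A
  have hinj : Function.Injective (MvPolynomial.aeval s : A →ₐ[k] K) :=
    algebraicIndependent_iff_injective_aeval.1 hs.1
  letI : Algebra A K := (MvPolynomial.aeval s : A →ₐ[k] K).toAlgebra
  haveI : IsScalarTower k A K := IsScalarTower.of_algebraMap_eq fun r =>
    ((MvPolynomial.aeval s : A →ₐ[k] K).commutes r).symm
  haveI : FaithfulSMul A K := (faithfulSMul_iff_algebraMap_injective A K).2 hinj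
  letI : Algebra F K := FractionRing.liftAlgebra A K
  haveI : IsScalarTower A F K := FractionRing.isScalarTower_liftAlgebra A K
  haveI : IsScalarTower k F K := IsScalarTower.of_algebraMap_eq fun r => by
    rw [IsScalarTower.algebraMap_apply k A K, IsScalarTower.algebraMap_apply A F K,
      ← IsScalarTower.algebraMap_apply k A F]
  have hcomp : (algebraMap ↥(IntermediateField.adjoin k (Set.range s)) K).comp
      hs.1.aevalEquivField.toRingEquiv.toRingHom =
      (RingEquiv.refl K).toRingHom.comp (algebraMap F K) := by
    refine IsLocalization.ringHom_ext (nonZeroDivisors A) (RingHom.ext fun a => ?_)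
    show (hs.1.aevalEquivField (algebraMap A F a) : K) = algebraMap F K (algebraMap A F a)
    rw [AlgebraicIndependent.aevalEquivField_algebraMap_apply_coe, ← IsScalarTower.algebraMap_apply]
    rfl
  haveI : Algebra.IsSeparable F K :=
    (Algebra.IsSeparable.iff_of_equiv_equiv hs.1.aevalEquivField.toRingEquiv (RingEquiv.refl K) hcomp).2 hsep
  haveI : Algebra.EssFiniteType F K := Algebra.EssFiniteType.of_comp k F K
  haveI : Module.Finite F K := Algebra.finite_of_essFiniteType_of_isAlgebraic
  obtain ⟨α, hα⟩ := Field.exists_primitive_element F K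
  haveI : Algebra.IsAlgebraic F K := inferInstance
  haveI : Algebra.IsAlgebraic A K := (IsFractionRing.comap_isAlgebraic_iff (A := A) (K := F) (C := K)).2 inferInstance
  obtain ⟨c, hc, hint⟩ := (Algebra.IsAlgebraic.isAlgebraic (R := A) α).exists_integral_multiple
  have hcK : algebraMap A K c ≠ 0 := (map_ne_zero_iff _ hinj).2 hc
  have htop : IntermediateField.adjoin F {c • α} = ⊤ := by
    rw [eq_top_iff, ← hα, IntermediateField.adjoin_simple_le_iff]
    have e : α = algebraMap F K (algebraMap A F c)⁻¹ * (c • α) := by
      rw [map_inv₀, ← IsScalarTower.algebraMap_apply, Algebra.smul_def, inv_mul_cancel_left₀ hcK]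
    have hm := mul_mem (IntermediateField.algebraMap_mem (IntermediateField.adjoin F ({c • α} : Set K))
      (algebraMap A F c)⁻¹) (IntermediateField.mem_adjoin_simple_self F (c • α))
    rwa [← e] at hm
  have hmap := minpoly.isIntegrallyClosed_eq_field_fractions' F hint
  have hFint : IsIntegral F (c • α) := hint.tower_top
  refine ⟨minpoly A (c • α), minpoly.monic hint, hmap ▸ minpoly.irreducible hFint,
    hmap ▸ Algebra.IsSeparable.isSeparable F (c • α), ?_⟩
  let φA : AdjoinRoot (minpoly A (c • α)) →ₐ[A] K :=
    (Algebra.adjoin A ({c • α} : Set K)).val.comp (AdjoinRoot.Minpoly.toAdjoin A (c • α))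
  refine ⟨φA.restrictScalars k, Subtype.val_injective.comp (minpoly.ToAdjoin.injective hint), fun z => ?_⟩
  have hz : z ∈ Algebra.adjoin F ({c • α} : Set K) := by
    rw [(IntermediateField.adjoin_eq_top_iff (S := ({c • α} : Set K))).1 htop]
    trivial
  rw [Algebra.adjoin_singleton_eq_range_aeval] at hz
  obtain ⟨p, rfl⟩ := hz
  obtain ⟨b, hb, hb'⟩ := IsLocalization.integerNormalization_spec (nonZeroDivisors A) p
  have hroot : φA (AdjoinRoot.root _) = c • α := by simp [φA]
  refine ⟨Polynomial.aeval (AdjoinRoot.root _) (IsLocalization.integerNormalization (nonZeroDivisors A) p),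
    algebraMap A _ b, ?_⟩
  show Polynomial.aeval (c • α) p = φA _ / φA _
  rw [← Polynomial.aeval_algHom_apply, hroot, φA.commutes,
    ← Polynomial.aeval_map_algebraMap F (c • α) (IsLocalization.integerNormalization (nonZeroDivisors A) p), hb',
    eq_div_iff (show algebraMap A K b ≠ 0 from (map_ne_zero_iff _ hinj).2 (nonZeroDivisors.ne_zero hb)),
    ← algebraMap_smul F b p, map_smul, algebraMap_smul, Algebra.smul_def b, mul_comm]

end Groth.Agent.Hyp18
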